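import Mathlib

/-!
# Pieces of `ℤ`-graded rings

Helper library (no milestone statements here): homogeneous coefficients, pieces of large degree
as products, finite generation of the non-negative part.
-/

universe u

namespace Misc3Gr

variable {R A : Type u} [CommRing R] [CommRing A] [Algebra R A] (𝒜 : ℤ → Submodule R A) [GradedAlgebra 𝒜]

/-- A homogeneous element of the ideal generated by homogeneous elements has homogeneous
coefficients. -/
theorem exists_coeff {κ : Type*} [Fintype κ] (g : κ → A) (w : κ → ℤ) (hg : ∀ i, g i ∈ 𝒜 (w i))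
    {n : ℤ} {x : A} (hx : x ∈ 𝒜 n) (hI : x ∈ Ideal.span (Set.range g)) :
    ∃ c : κ → A, (∀ i, c i ∈ 𝒜 (n - w i)) ∧ ∑ i, c i * g i = x := by
  classical
  obtain ⟨c, hc⟩ := Ideal.mem_span_range_iff_exists_fun.1 hI
  refine ⟨fun i => (DirectSum.decompose 𝒜 (c i) (n - w i) : A), fun i => Subtype.mem _, ?_⟩
  calc ∑ i, (DirectSum.decompose 𝒜 (c i) (n - w i) : A) * g i
      = ∑ i, (DirectSum.decompose 𝒜 (c i * g i) n : A) := Finset.sum_congr rfl fun i _ => by
        have h := DirectSum.coe_decompose_mul_add_of_right_mem (𝒜 := 𝒜) (a := c i) (i := n - w i) (hg i)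
        rw [sub_add_cancel] at h
        rw [h]
    _ = (DirectSum.decompose 𝒜 (∑ i, c i * g i) n : A) := by
        rw [DirectSum.decompose_sum, DFinsupp.finsetSum_apply, AddSubmonoidClass.coe_finsetSum]
    _ = x := by rw [hc, DirectSum.decompose_of_mem_same 𝒜 hx]

section Positive

variable {p : ℕ} (f : Fin p → A) (deg : Fin p → ℤ) (hdeg : ∀ i, 0 < deg i) (hf : ∀ i, f i ∈ 𝒜 (deg i))
  (hgen : Ideal.span {a : A | ∃ n : ℤ, 0 < n ∧ a ∈ 𝒜 n} = Ideal.span (Set.range f))
  (d : ℤ) (hd : 0 < d) (hdvd : ∀ i, deg i ∣ d)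

theorem piece_mul_le (i j : ℤ) : 𝒜 i * 𝒜 j ≤ 𝒜 (i + j) :=
  Submodule.mul_le.2 fun _ ha _ hb => SetLike.mul_mem_graded ha hb

include hdeg hf hgen hd hdvd in
theorem piece_eq_mul (N : ℤ) (hN : d * p - ∑ i, deg i < N) : 𝒜 N = 𝒜 d * 𝒜 (N - d) := by
  classical
  refine le_antisymm (fun x hx => ?_) ((piece_mul_le 𝒜 _ _).trans (by rw [add_sub_cancel]))
  have hq : ∀ i, ∃ q : ℕ, 0 < q ∧ (q : ℤ) * deg i = d := fun i => by
    obtain ⟨k, hk⟩ := hdvd i
    have hk0 : 0 < k := (mul_pos_iff_of_pos_left (hdeg i)).1 (hk ▸ hd)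
    exact ⟨k.toNat, by omega, by rw [Int.toNat_of_nonneg hk0.le, hk, mul_comm]⟩
  choose q hq0 hq using hq
  suffices key : ∀ (m : ℕ) (e : Fin p → ℕ), ∑ i, q i ≤ ∑ i, e i + m →
      ∀ a ∈ 𝒜 (N - ∑ i, (e i : ℤ) * deg i), (∏ i, f i ^ e i) * a ∈ 𝒜 d * 𝒜 (N - d) by
    simpa using key (∑ i, q i) 0 (by simp) x (by simpa using hx)
  intro m
  induction m using Nat.strong_induction_on with
  | _ m ih =>
    intro e hm a ha
    by_cases hex : ∃ i, q i ≤ e i
    · obtain ⟨i, hi⟩ := hex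
      let e' : Fin p → ℕ := fun j => e j - (Pi.single i (q i) : Fin p → ℕ) j
      have hle : ∀ j, (Pi.single i (q i) : Fin p → ℕ) j ≤ e j := fun j => by
        rcases eq_or_ne j i with rfl | hj
        · simpa using hi
        · simp [hj]
      have hsplit : ∏ j, f j ^ e j = f i ^ q i * ∏ j, f j ^ e' j := by
        rw [show f i ^ q i = ∏ j, f j ^ (Pi.single i (q i) : Fin p → ℕ) j from ?_, ← Finset.prod_mul_distrib]
        · refine Finset.prod_congr rfl fun j _ => ?_
          rw [← pow_add, Nat.add_sub_cancel' (hle j)]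
        · rw [Finset.prod_eq_single i (fun j _ hj => by simp [hj]) (by simp), Pi.single_eq_same]
      have hsum : ∑ j, (e' j : ℤ) * deg j = ∑ j, (e j : ℤ) * deg j - d := by
        have : ∀ j, (e' j : ℤ) * deg j = (e j : ℤ) * deg j - (if j = i then d else 0) := fun j => by
          rcases eq_or_ne j i with rfl | hj
          · rw [if_pos rfl, show e' j = e j - q j by simp [e'], Nat.cast_sub hi, sub_mul, hq]
          · rw [if_neg hj, show e' j = e j by simp [e', hj], sub_zero]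
        simp only [this, Finset.sum_sub_distrib, Finset.sum_ite_eq', Finset.mem_univ, if_true]
      rw [hsplit, mul_assoc]
      refine Submodule.mul_mem_mul ?_ ?_
      · have h := SetLike.pow_mem_graded (q i) (hf i)
        rwa [nsmul_eq_mul, hq] at h
      · have h : ∏ j, f j ^ e' j ∈ 𝒜 (∑ j, e' j • deg j) :=
          SetLike.prod_pow_mem_graded (A := 𝒜) (fun j => deg j) f (F := Finset.univ) e' (fun j _ => hf j)
        simp only [nsmul_eq_mul] at h
        rw [hsum] at h
        have := SetLike.mul_mem_graded h ha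
        rwa [show ∑ j, (e j : ℤ) * deg j - d + (N - ∑ j, (e j : ℤ) * deg j) = N - d by ring] at this
    · push Not at hex
      have hb : ∑ i, (e i : ℤ) * deg i ≤ d * p - ∑ i, deg i := by
        have h1 : ∀ i, (e i : ℤ) * deg i ≤ d - deg i := fun i => by
          have h2 : (e i : ℤ) + 1 ≤ q i := by exact_mod_cast hex i
          nlinarith [hq i, hdeg i]
        calc ∑ i, (e i : ℤ) * deg i ≤ ∑ i, (d - deg i) := Finset.sum_le_sum fun i _ => h1 i
          _ = d * p - ∑ i, deg i := by simp [Finset.sum_sub_distrib, mul_comm]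
      have haI : a ∈ Ideal.span (Set.range f) := hgen ▸ Ideal.subset_span ⟨_, by omega, ha⟩
      obtain ⟨c, hc, hca⟩ := exists_coeff 𝒜 f deg hf ha haI
      rw [← hca, Finset.mul_sum]
      refine sum_mem fun i _ => ?_
      let e'' : Fin p → ℕ := fun j => e j + (Pi.single i 1 : Fin p → ℕ) j
      have hprod : ∏ j, f j ^ e'' j = (∏ j, f j ^ e j) * f i := by
        simp only [e'', pow_add, Finset.prod_mul_distrib]
        congr 1
        rw [Finset.prod_eq_single i (fun j _ hj => by simp [hj]) (by simp), Pi.single_eq_same, pow_one]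
      have hs : ∑ j, e'' j = ∑ j, e j + 1 := by simp [e'', Finset.sum_add_distrib]
      have hlt : ∑ j, e j < ∑ j, q j :=
        Finset.sum_lt_sum_of_nonempty ⟨i, Finset.mem_univ i⟩ fun j _ => hex j
      have hdegs : ∑ j, (e'' j : ℤ) * deg j = ∑ j, (e j : ℤ) * deg j + deg i := by
        have : ∀ j, (e'' j : ℤ) * deg j = (e j : ℤ) * deg j + (if j = i then deg i else 0) := fun j => by
          rcases eq_or_ne j i with rfl | hj
          · simp [e'', add_mul]
          · simp [e'', hj]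
        simp only [this, Finset.sum_add_distrib, Finset.sum_ite_eq', Finset.mem_univ, if_true]
      have := ih (∑ j, q j - ∑ j, e'' j) (by omega) e'' (by omega) (c i)
        (by rw [hdegs, ← sub_sub]; exact hc i)
      rwa [hprod, mul_assoc, mul_comm (f i)] at this

include hdeg hf hgen hd hdvd in
theorem piece_le_pow_mul : ∀ (k : ℕ) (N : ℤ), d * p - ∑ i, deg i + k * d < N →
    𝒜 N ≤ 𝒜 d ^ k * 𝒜 (N - k * d) := by
  intro k
  induction k with
  | zero => intro N _; simp
  | succ k ih =>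
    intro N hN
    have h1 := ih N (by push_cast at hN; nlinarith)
    rw [piece_eq_mul 𝒜 f deg hdeg hf hgen d hd hdvd (N - k * d) (by push_cast at hN; nlinarith),
      ← mul_assoc, ← pow_succ] at h1
    refine h1.trans (le_of_eq ?_)
    congr 2
    push_cast
    ring

end Positive

/-- If the homogeneous ideals are finitely generated then so is every piece over `A_0`. -/
theorem exists_finset_piece (h : ∀ I : Ideal A, I.IsHomogeneous 𝒜 → I.FG) (n : ℤ) (s : Set A)
    (hs : ∀ a ∈ s, a ∈ 𝒜 n) :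
    ∃ t : Finset A, (t : Set A) ⊆ s ∧ ∀ x ∈ 𝒜 n, x ∈ Ideal.span s →
      ∃ c : t → A, (∀ y, c y ∈ 𝒜 0) ∧ ∑ y, c y * (y : A) = x := by
  classical
  obtain ⟨t, ht, heq⟩ := (Submodule.fg_span_iff_fg_span_finset_subset s).1
    (h (Ideal.span s) (Ideal.homogeneous_span 𝒜 s fun a ha => ⟨n, hs a ha⟩))
  refine ⟨t, ht, fun x hx hxs => ?_⟩
  have hx' : x ∈ Ideal.span (Set.range fun y : t => (y : A)) := by
    rw [Subtype.range_coe_subtype]
    rw [show Ideal.span s = Submodule.span A s from rfl, heq] at hxs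
    exact hxs
  obtain ⟨c, hc, hcx⟩ := exists_coeff 𝒜 _ (fun _ => n) (fun y => hs _ (ht y.2)) hx hx'
  exact ⟨c, fun y => by simpa using hc y, hcx⟩

theorem isNoetherianRing_zero (h : ∀ I : Ideal A, I.IsHomogeneous 𝒜 → I.FG) :
    IsNoetherianRing (𝒜 0) := by
  classical
  refine isNoetherianRing_iff_ideal_fg _ |>.2 fun J => ?_
  let ι : 𝒜 0 → A := Subtype.val
  obtain ⟨t, ht, htJ⟩ := exists_finset_piece 𝒜 h 0 (ι '' J) (by rintro _ ⟨y, _, rfl⟩; exact y.2)
  have htmem : ∀ y : t, (y : A) ∈ 𝒜 0 := fun y => by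
    obtain ⟨z, _, hz⟩ := ht y.2
    exact hz ▸ z.2
  have htJ' : ∀ y : t, (⟨(y : A), htmem y⟩ : 𝒜 0) ∈ J := fun y => by
    obtain ⟨z, hz, hzy⟩ := ht y.2
    rw [show (⟨(y : A), htmem y⟩ : 𝒜 0) = z from Subtype.ext (show (y : A) = (z : A) from hzy.symm)]
    exact hz
  refine ⟨Finset.univ.image fun y : t => (⟨(y : A), htmem y⟩ : 𝒜 0),
    le_antisymm (Submodule.span_le.2 ?_) fun x hx => ?_⟩
  · intro z hz
    simp only [Finset.coe_image, Set.mem_image] at hz
    obtain ⟨y, _, rfl⟩ := hz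
    exact htJ' y
  · obtain ⟨c, hc, hcx⟩ := htJ x x.2 (Ideal.subset_span ⟨x, hx, rfl⟩)
    have hxeq : x = ∑ y : t, (⟨c y, hc y⟩ : 𝒜 0) • (⟨(y : A), htmem y⟩ : 𝒜 0) :=
      Subtype.ext (by rw [AddSubmonoidClass.coe_finsetSum, ← hcx]; rfl)
    rw [hxeq]
    exact sum_mem fun y _ => Submodule.smul_mem _ _ (Submodule.subset_span (by simp))

theorem fg_adjoin_nonneg (h : ∀ I : Ideal A, I.IsHomogeneous 𝒜 → I.FG) (ε : ℤ) :
    (Algebra.adjoin (𝒜 0) {a : A | ∃ n : ℕ, a ∈ 𝒜 (ε * n)}).FG := by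
  classical
  let P : Set A := {a : A | ∃ n : ℕ, 0 < n ∧ a ∈ 𝒜 (ε * n)}
  obtain ⟨t, ht, heq⟩ := (Submodule.fg_span_iff_fg_span_finset_subset P).1
    (h (Ideal.span P) (Ideal.homogeneous_span 𝒜 P fun a ⟨n, _, ha⟩ => ⟨_, ha⟩))
  choose w hw0 hw using fun y : t => ht y.2
  let D := Finset.univ.sup w
  choose g hg hgc using fun n : ℕ => exists_finset_piece 𝒜 h (ε * n) (𝒜 (ε * n) : Set A) fun _ ha => ha
  let G : Finset A := t ∪ (Finset.range (D + 1)).biUnion g
  refine ⟨G, le_antisymm (Algebra.adjoin_le fun y hy => Algebra.subset_adjoin ?_) (Algebra.adjoin_le ?_)⟩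
  · rcases Finset.mem_union.1 (Finset.mem_coe.1 hy) with hy | hy
    · exact ⟨w ⟨y, hy⟩, hw ⟨y, hy⟩⟩
    · obtain ⟨n, _, hy⟩ := Finset.mem_biUnion.1 hy
      exact ⟨n, hg n hy⟩
  rintro x ⟨n, hx⟩
  show x ∈ Algebra.adjoin (𝒜 0) (G : Set A)
  induction n using Nat.strong_induction_on generalizing x with
  | _ n ih =>
    rcases Nat.eq_zero_or_pos n with rfl | hn
    · have hx0 : x ∈ 𝒜 0 := by simpa using hx
      exact (Algebra.adjoin (𝒜 0) (G : Set A)).algebraMap_mem ⟨x, hx0⟩
    by_cases hnD : n ≤ D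
    · obtain ⟨c, hc, rfl⟩ := hgc n x hx (Ideal.subset_span hx)
      refine sum_mem fun y _ => mul_mem
        ((Algebra.adjoin (𝒜 0) (G : Set A)).algebraMap_mem ⟨c y, hc y⟩)
        (Algebra.subset_adjoin (Finset.mem_coe.2 (Finset.mem_union_right _ ?_)))
      exact Finset.mem_biUnion.2 ⟨n, Finset.mem_range.2 (by omega), y.2⟩
    · have hx' : x ∈ Ideal.span (Set.range fun y : t => (y : A)) := by
        have : x ∈ Submodule.span A P := Submodule.subset_span ⟨n, hn, hx⟩
        rw [heq] at this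
        rw [Subtype.range_coe_subtype]
        exact this
      obtain ⟨c, hc, rfl⟩ := exists_coeff 𝒜 _ (fun y : t => ε * (w y : ℤ)) hw hx hx'
      refine sum_mem fun y _ => mul_mem ?_
        (Algebra.subset_adjoin (Finset.mem_coe.2 (Finset.mem_union_left _ y.2)))
      have hy : w y ≤ D := Finset.le_sup (Finset.mem_univ y)
      refine ih (n - w y) (by have := hw0 y; omega) ?_
      rw [Nat.cast_sub (by omega), mul_sub]
      exact hc y

end Misc3Gr
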